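import Groth.Agent.PicEtale.Unique
import Groth.Agent.AlgStBasic.SmoothDescent
import Mathlib.AlgebraicGeometry.Sites.Fpqc
import Mathlib.RingTheory.Etale.QuasiFinite

/-!
# Existence of roots in the relative Picard functor on Artinian thickenings
-/

set_option autoImplicit false
set_option linter.style.haveILetI false
universe u

open CategoryTheory AlgebraicGeometry Limits Opposite IsLocalRing TensorProduct

noncomputable section

namespace Groth.PicEtale

open Groth.Abvar.PicCalc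
open scoped Groth.Abvar.PicCalc

/-- Shorthand for the morphism of spectra of a ring map. -/
abbrev sp {A B : Type u} [CommRing A] [CommRing B] (h : A →+* B) :
    Spec (CommRingCat.of B) ⟶ Spec (CommRingCat.of A) := Spec.map (CommRingCat.ofHom h)

theorem sp_comp {A B C : Type u} [CommRing A] [CommRing B] [CommRing C] (h : A →+* B) (h' : B →+* C) :
    sp h' ≫ sp h = sp (h'.comp h) := (Spec.map_comp _ _).symm

/-- An étale scheme over a local Artinian ring with a point dominates a finite étale local algebra. -/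
theorem exists_local_etale {A : Type u} [CommRing A] [IsLocalRing A] [IsArtinianRing A] {U : Scheme.{u}}
    (h : U ⟶ Spec (CommRingCat.of A)) [Etale h] (y : U) :
    ∃ (B : Type u) (_ : CommRing B) (_ : IsLocalRing B) (_ : Algebra A B) (_ : Module.Finite A B)
      (_ : Algebra.Etale A B) (v : Spec (CommRingCat.of B) ⟶ U), v ≫ h = sp (algebraMap A B) := by
  obtain ⟨W, hW, hyW, -⟩ := exists_isAffineOpen_mem_and_subset (x := y) (U := (⊤ : U.Opens)) trivial
  obtain ⟨ψ, hψ⟩ := Spec.map_surjective (hW.fromSpec ≫ h)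
  have hE : Etale (Spec.map ψ) := by rw [hψ]; infer_instance
  rw [HasRingHomProperty.Spec_iff (P := @Etale)] at hE
  let _ : Algebra A Γ(U, W) := ψ.hom.toAlgebra
  have : Algebra.Etale A Γ(U, W) := hE
  have : Module.Finite A Γ(U, W) := Module.Finite.of_quasiFinite
  have : IsArtinianRing Γ(U, W) := IsArtinianRing.of_finite A _
  let q := (hW.primeIdealOf ⟨y, hyW⟩).asIdeal
  let B := Localization.AtPrime q
  have hsurj : Function.Surjective (algebraMap Γ(U, W) B) :=
    IsArtinianRing.localization_surjective q.primeCompl B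
  have hfin : Module.Finite A B :=
    Module.Finite.of_surjective (IsScalarTower.toAlgHom A Γ(U, W) B).toLinearMap hsurj
  have : Algebra.FormallyEtale Γ(U, W) B := Algebra.FormallyEtale.of_isLocalization q.primeCompl
  have : Algebra.FormallyEtale A B := Algebra.FormallyEtale.comp A Γ(U, W) B
  have : Algebra.FinitePresentation A B := Algebra.FinitePresentation.of_finiteType.1 inferInstance
  refine ⟨B, inferInstance, inferInstance, inferInstance, hfin, {}, sp (algebraMap Γ(U, W) B) ≫ hW.fromSpec, ?_⟩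
  rw [Category.assoc, ← hψ, ← Spec.map_comp]
  rfl

theorem isLocalHom_of_finite {A B : Type u} [CommRing A] [IsLocalRing A] [IsArtinianRing A] [CommRing B]
    [IsLocalRing B] [Algebra A B] : IsLocalHom (algebraMap A B) := by
  refine ⟨fun a ha => of_not_not fun h => ?_⟩
  have hm : a ∈ maximalIdeal A := h
  obtain ⟨k, hk⟩ := IsArtinianRing.isNilpotent_jacobson_bot (R := A)
  have : a ^ k = 0 := by
    rw [← jacobson_eq_maximalIdeal ⊥ bot_ne_top] at hm
    simpa [hk] using Ideal.pow_mem_pow hm k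
  have := (ha.pow k)
  rw [← map_pow, ‹a ^ k = 0›, map_zero] at this
  exact not_isUnit_zero this

theorem faithfullyFlat_of_local {A B : Type u} [CommRing A] [IsLocalRing A] [IsArtinianRing A] [CommRing B]
    [IsLocalRing B] [Algebra A B] [Algebra.Etale A B] : Module.FaithfullyFlat A B :=
  have := isLocalHom_of_finite (A := A) (B := B)
  Module.FaithfullyFlat.of_flat_of_isLocalHom

variable {X S : Scheme.{u}} {f : X ⟶ S} {P : Over S} {φ : ∀ T : Over S, PicF.Cl (PicF.XT f T) → (T ⟶ P)}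

section

variable (hP : PicRel.IsRelPic f P φ)
include hP

/-- A point with values in a local Artinian ring comes from a class after a finite étale extension. -/
theorem exists_class_local {A : Type u} [CommRing A] [IsLocalRing A] [IsArtinianRing A]
    {b : Spec (CommRingCat.of A) ⟶ S} (g : Over.mk b ⟶ P) :
    ∃ (B : Type u) (_ : CommRing B) (_ : IsLocalRing B) (_ : Algebra A B) (_ : Module.Finite A B)
      (_ : Algebra.Etale A B) (c : PicLoc.PicSet (PicF.XT f (Over.mk (sp (algebraMap A B) ≫ b)))),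
      (φ _ c.1).left = sp (algebraMap A B) ≫ g.left := by
  obtain ⟨ι, U, hU, hUi⟩ := hP.locallySurjective _ g
  obtain ⟨i, y, -⟩ := hU (closedPoint A)
  have : Etale (U i).hom := (U i).prop
  obtain ⟨B, _, _, _, _, _, v, hv⟩ := exists_local_etale (A := A) (U i).hom y
  obtain ⟨c, hc, hci⟩ := hUi i
  let σ : Over.mk (sp (algebraMap A B) ≫ b) ⟶ PicRel.ovr (Over.mk b) (U i) :=
    Over.homMk v (show v ≫ (U i).hom ≫ b = _ from by rw [← hv, Category.assoc]; rfl)
  refine ⟨B, inferInstance, inferInstance, inferInstance, inferInstance, inferInstance, pull (PicF.XTmap f σ) ⟨c, hc⟩, ?_⟩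
  show (φ _ (PicF.pullCl (PicF.XTmap f σ) c)).left = _
  rw [hP.natural _ _ σ c hc, hci]
  exact (Category.assoc v (U i).hom g.left).symm.trans (congrArg (· ≫ g.left) hv)

/-- Classes with equal points agree after a finite étale extension. -/
theorem class_ext_local {A : Type u} [CommRing A] [IsLocalRing A] [IsArtinianRing A]
    {b : Spec (CommRingCat.of A) ⟶ S} {c c' : PicLoc.PicSet (PicF.XT f (Over.mk b))}
    (h : φ _ c.1 = φ _ c'.1) :
    ∃ (B : Type u) (_ : CommRing B) (_ : IsLocalRing B) (_ : Algebra A B) (_ : Module.Finite A B)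
      (_ : Algebra.Etale A B),
      pull (PicF.XTmap f (Over.homMk (sp (algebraMap A B)) rfl :
        Over.mk (sp (algebraMap A B) ≫ b) ⟶ Over.mk b)) c =
      pull (PicF.XTmap f (Over.homMk (sp (algebraMap A B)) rfl)) c' := by
  obtain ⟨ι, U, hU, hUi⟩ := hP.locallyInjective _ c.1 c'.1 c.2 c'.2 h
  obtain ⟨i, y, -⟩ := hU (closedPoint A)
  have : Etale (U i).hom := (U i).prop
  obtain ⟨B, _, _, _, _, _, v, hv⟩ := exists_local_etale (A := A) (U i).hom y
  refine ⟨B, inferInstance, inferInstance, inferInstance, inferInstance, inferInstance, ?_⟩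
  let σ : Over.mk (sp (algebraMap A B) ≫ b) ⟶ PicRel.ovr (Over.mk b) (U i) :=
    Over.homMk v (show v ≫ (U i).hom ≫ b = _ from by rw [← hv, Category.assoc]; rfl)
  have e : (Over.homMk (sp (algebraMap A B)) rfl : Over.mk (sp (algebraMap A B) ≫ b) ⟶ Over.mk b) =
      σ ≫ PicRel.ovrHom (Over.mk b) (U i) := Over.OverMorphism.ext hv.symm
  rw [e, ← Groth.PicLim.XTmap_comp, pull_comp, pull_comp]
  exact congrArg _ (Subtype.ext (hUi i))

variable [IsProper f] {n : ℕ} {m : P ⟶ P}
  (hm : ∀ (T : Over S) (L : (PicF.XT f T).Modules), PicF.IsInvertible L →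
    φ T (PicF.cl (CohB1.tensorPow L n)) = φ T (PicF.cl L) ≫ m)
include hm

/-- Unique lifting of roots over a local Artinian ring. -/
theorem existsUnique_of_local {A : Type u} [CommRing A] [IsLocalRing A] [IsArtinianRing A]
    (hn : IsUnit (n : A)) (hn0 : 0 < n) {I : Ideal A} (hI : I ^ 2 = ⊥)
    (a : Spec (CommRingCat.of (A ⧸ I)) ⟶ P.left) (b : Spec (CommRingCat.of A) ⟶ P.left)
    (hab : iq I ≫ b = a ≫ m.left) :
    ∃! l : Spec (CommRingCat.of A) ⟶ P.left, iq I ≫ l = a ∧ l ≫ m.left = b := by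
  refine existsUnique_of_exists_of_unique ?_ fun l l' hl hl' =>
    eq_of_artinian hP hm hn hn0 hI (hl.1.trans hl'.1.symm) (hl.2.trans hl'.2.symm)
  let bS := b ≫ P.hom
  -- a class for `b`
  obtain ⟨A₁, _, _, _, _, _, d, hd⟩ := exists_class_local hP (b := bS) (Over.homMk b rfl : Over.mk bS ⟶ P)
  have : IsArtinianRing A₁ := IsArtinianRing.of_finite A A₁
  let I₁ := I.map (algebraMap A A₁)
  have hI₁ : I₁ ^ 2 = ⊥ := by rw [← Ideal.map_pow, hI, Ideal.map_bot]
  have : Nontrivial (A₁ ⧸ I₁) := Ideal.Quotient.nontrivial_iff.2 fun h => by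
    rw [h, pow_two, Ideal.top_mul] at hI₁; exact top_ne_bot hI₁
  have : IsLocalRing (A₁ ⧸ I₁) := IsLocalRing.of_surjective' _ Ideal.Quotient.mk_surjective
  let α : A ⧸ I →+* A₁ ⧸ I₁ := Ideal.quotientMap I₁ (algebraMap A A₁) Ideal.le_comap_map
  let b₁ := sp (algebraMap A A₁) ≫ bS
  have haS : a ≫ P.hom = iq I ≫ bS := by
    simp only [bS]; rw [reassoc_of% hab, Over.w m]
  have hα : sp α ≫ iq I = iq I₁ ≫ sp (algebraMap A A₁) := by rw [sp_comp, sp_comp]; rfl
  let g₀ : Over.mk (iq I₁ ≫ b₁) ⟶ P := Over.homMk (sp α ≫ a) (by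
    show (sp α ≫ a) ≫ P.hom = iq I₁ ≫ b₁
    rw [Category.assoc, haS, reassoc_of% hα])
  -- a class for `a`
  obtain ⟨B₀, _, _, _, _, _, c₀, hc₀⟩ := exists_class_local hP g₀
  have : IsArtinianRing B₀ := IsArtinianRing.of_finite (A₁ ⧸ I₁) B₀
  let τ₀ : Over.mk (sp (algebraMap (A₁ ⧸ I₁) B₀) ≫ iq I₁ ≫ b₁) ⟶ Over.mk b₁ :=
    Over.homMk (sp (algebraMap (A₁ ⧸ I₁) B₀) ≫ iq I₁) (Category.assoc _ _ _)
  have hφ : φ _ (c₀ ^ n).1 = φ _ (pull (PicF.XTmap f τ₀) d).1 := by
    rw [phi_pow hm]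
    show φ _ c₀.1 ≫ m = φ _ (PicF.pullCl _ d.1)
    rw [hP.natural _ _ τ₀ d.1 d.2]
    refine Over.OverMorphism.ext ?_
    show (φ _ c₀.1).left ≫ m.left = (sp (algebraMap (A₁ ⧸ I₁) B₀) ≫ iq I₁) ≫ (φ _ d.1).left
    rw [hc₀, hd]
    show (_ ≫ sp α ≫ a) ≫ m.left = _
    simp only [Category.assoc]
    rw [← hab, reassoc_of% hα]
    rfl
  obtain ⟨C, _, _, _, _, _, hC⟩ := class_ext_local hP hφ
  -- lift the étale extension
  let _ : Algebra (A₁ ⧸ I₁) C := ((algebraMap B₀ C).comp (algebraMap (A₁ ⧸ I₁) B₀)).toAlgebra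
  have : IsScalarTower (A₁ ⧸ I₁) B₀ C := IsScalarTower.of_algebraMap_eq fun _ => rfl
  have : Algebra.Etale (A₁ ⧸ I₁) C := Algebra.Etale.comp (A₁ ⧸ I₁) B₀ C
  let _ : Algebra A₁ C := ((algebraMap (A₁ ⧸ I₁) C).comp (Ideal.Quotient.mk I₁)).toAlgebra
  have : IsScalarTower A₁ (A₁ ⧸ I₁) C := IsScalarTower.of_algebraMap_eq fun _ => rfl
  obtain ⟨Q, _, _, π, hQe, hπ, hker⟩ := Groth.AlgStBasic.SmoothDescent.exists_etale_lift
    (P := A₁) (B := A₁ ⧸ I₁) (C := C) Ideal.Quotient.mk_surjective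
  let _ : Algebra A Q := ((algebraMap A₁ Q).comp (algebraMap A A₁)).toAlgebra
  have : IsScalarTower A A₁ Q := IsScalarTower.of_algebraMap_eq fun _ => rfl
  have : Algebra.Etale A Q := Algebra.Etale.comp A A₁ Q
  let K := I.map (algebraMap A Q)
  have hK : RingHom.ker π.toRingHom = K := by
    rw [hker, Ideal.Quotient.algebraMap_eq, Ideal.mk_ker, Ideal.map_map]; rfl
  have hK2 : K ^ 2 = ⊥ := by rw [← Ideal.map_pow, hI, Ideal.map_bot]
  have : Nontrivial Q := π.toRingHom.domain_nontrivial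
  have : IsLocalRing Q := by
    refine IsLocalRing.of_isUnit_or_isUnit_one_sub_self fun x => ?_
    have hu : ∀ z, IsUnit (π z) → IsUnit z := fun z hz => by
      obtain ⟨w, hw⟩ := hπ ↑hz.unit⁻¹
      have hmem : z * w - 1 ∈ K := hK ▸ (RingHom.mem_ker.2 (by simp [hw]) : z * w - 1 ∈ RingHom.ker π.toRingHom)
      have hnil : IsNilpotent (z * w - 1) := ⟨2, by simpa [hK2] using Ideal.pow_mem_pow hmem 2⟩
      have h1 := hnil.isUnit_add_one
      rw [sub_add_cancel] at h1
      exact isUnit_of_mul_isUnit_left h1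
    exact (IsLocalRing.isUnit_or_isUnit_one_sub_self (π x)).imp (hu x) fun h => hu _ (by rwa [map_sub, map_one])
  have : Module.Finite A Q := Module.Finite.of_quasiFinite
  let k : C →+* Q ⧸ K :=
    (Ideal.quotEquivOfEq hK).toRingHom.comp (RingHom.quotientKerEquivOfSurjective hπ).symm.toRingHom
  have hk : ∀ z, k (π z) = Ideal.Quotient.mk K z := fun z => by
    show Ideal.quotEquivOfEq hK ((RingHom.quotientKerEquivOfSurjective hπ).symm (π z)) = _
    rw [show (RingHom.quotientKerEquivOfSurjective hπ).symm (π z) = Ideal.Quotient.mk _ z from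
      (RingEquiv.symm_apply_eq _).2 rfl]
    rfl
  let bQ := sp (algebraMap A₁ Q) ≫ b₁
  have hsq : sp k ≫ sp (algebraMap (A₁ ⧸ I₁) C) ≫ iq I₁ = iq K ≫ sp (algebraMap A₁ Q) := by
    rw [sp_comp, sp_comp, sp_comp]
    congr 1
    refine RingHom.ext fun z => ?_
    show k (algebraMap A₁ C z) = Ideal.Quotient.mk K (algebraMap A₁ Q z)
    rw [← hk, π.commutes]
  let τQ : Over.mk bQ ⟶ Over.mk b₁ := Over.homMk (sp (algebraMap A₁ Q)) rfl
  let τC : Over.mk (iq K ≫ bQ) ⟶ Over.mk (sp (algebraMap B₀ C) ≫ sp (algebraMap (A₁ ⧸ I₁) B₀) ≫ iq I₁ ≫ b₁) :=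
    Over.homMk (sp k) (by
      show sp k ≫ sp (algebraMap B₀ C) ≫ sp (algebraMap (A₁ ⧸ I₁) B₀) ≫ iq I₁ ≫ b₁ = iq K ≫ bQ
      rw [reassoc_of% (sp_comp (algebraMap (A₁ ⧸ I₁) B₀) (algebraMap B₀ C))]
      exact (reassoc_of% hsq) _)
  let q : Over.mk (sp (algebraMap B₀ C) ≫ sp (algebraMap (A₁ ⧸ I₁) B₀) ≫ iq I₁ ≫ b₁) ⟶
      Over.mk (sp (algebraMap (A₁ ⧸ I₁) B₀) ≫ iq I₁ ≫ b₁) := Over.homMk (sp (algebraMap B₀ C)) rfl
  have hroot : pull (PicF.XTmap f (jq K bQ)) (pull (PicF.XTmap f τQ) d) =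
      (pull (PicF.XTmap f (τC ≫ q)) c₀) ^ n := by
    have e : jq K bQ ≫ τQ = τC ≫ q ≫ τ₀ := by
      refine Over.OverMorphism.ext ?_
      show iq K ≫ sp (algebraMap A₁ Q) = sp k ≫ sp (algebraMap B₀ C) ≫ sp (algebraMap (A₁ ⧸ I₁) B₀) ≫ iq I₁
      rw [reassoc_of% (sp_comp (algebraMap (A₁ ⧸ I₁) B₀) (algebraMap B₀ C))]
      exact hsq.symm
    have hC' := congrArg (pull (PicF.XTmap f τC)) hC
    rw [← pull_comp, Groth.PicLim.XTmap_comp, e, ← map_pow]
    rw [← Groth.PicLim.XTmap_comp, ← Groth.PicLim.XTmap_comp, ← Groth.PicLim.XTmap_comp, pull_comp,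
      pull_comp, pull_comp]
    exact hC'.symm
  have hfot := fot_XTmap (f := f) hK2 bQ
  have : IsClosedImmersion (PicF.XTmap f (jq K bQ)) := hfot.1.1
  have hnQ : IsUnit (n : Q) := by simpa using hn.map (algebraMap A Q)
  obtain ⟨c, hc, hcn⟩ := exists_root_lift (PicF.XTmap f (jq K bQ)) hfot.2
    (isUnit_natCast_XT hnQ (Over.mk bQ) (𝟙 _)) _ _ hroot
  let lQ : Spec (CommRingCat.of Q) ⟶ P.left := (φ _ c.1).left
  have hlQb : lQ ≫ m.left = sp (algebraMap A Q) ≫ b := by
    have h := congrArg (fun w => w.left) ((phi_pow hm _ c).symm.trans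
      ((congrArg (fun z => φ _ z.1) hcn).trans (hP.natural _ _ τQ d.1 d.2)))
    refine h.trans ?_
    show sp (algebraMap A₁ Q) ≫ (φ _ d.1).left = _
    rw [hd, ← Category.assoc, sp_comp]
    rfl
  let αQ : A ⧸ I →+* Q ⧸ K := Ideal.quotientMap K (algebraMap A Q) Ideal.le_comap_map
  have hlQa : iq K ≫ lQ = sp αQ ≫ a := by
    have h : (φ _ (pull (PicF.XTmap f (jq K bQ)) c).1).left =
        (φ _ (pull (PicF.XTmap f (τC ≫ q)) c₀).1).left :=
      congrArg (fun z => (φ _ z.1).left) hc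
    refine Eq.trans ?_ (h.trans ?_)
    · exact (congrArg (fun w => w.left) (hP.natural _ _ (jq K bQ) c.1 c.2)).symm
    · refine (congrArg (fun w => w.left) (hP.natural _ _ (τC ≫ q) c₀.1 c₀.2)).trans ?_
      show (sp k ≫ sp (algebraMap B₀ C)) ≫ (φ _ c₀.1).left = _
      rw [hc₀]
      show (sp k ≫ sp (algebraMap B₀ C)) ≫ sp (algebraMap (A₁ ⧸ I₁) B₀) ≫ sp α ≫ a = _
      simp only [← Category.assoc, sp_comp]
      congr 2
      refine Ideal.Quotient.ringHom_ext (RingHom.ext fun z => ?_)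
      show k (algebraMap A₁ C (algebraMap A A₁ z)) = Ideal.Quotient.mk K (algebraMap A Q z)
      rw [← π.commutes, hk]
      rfl
  -- compatibility with maps killing the ideal
  have key : ∀ (R : Type u) [CommRing R] (h : Q →+* R) (w : A ⧸ I →+* R),
      h.comp (algebraMap A Q) = w.comp (Ideal.Quotient.mk I) → sp h ≫ lQ = sp w ≫ a := by
    intro R _ h w hw
    have hle : K ≤ RingHom.ker h := Ideal.map_le_iff_le_comap.2 fun z hz => by
      show h (algebraMap A Q z) = 0
      rw [← RingHom.comp_apply, hw]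
      simp [Ideal.Quotient.eq_zero_iff_mem.2 hz]
    let h' : Q ⧸ K →+* R := Ideal.Quotient.lift K h fun z hz => hle hz
    have e : h'.comp αQ = w := Ideal.Quotient.ringHom_ext (RingHom.ext fun z => RingHom.congr_fun hw z)
    have e0 : sp h = sp h' ≫ iq K := (congrArg sp (show h = h'.comp (Ideal.Quotient.mk K) from rfl)).trans (sp_comp (Ideal.Quotient.mk K) h').symm
    rw [e0, Category.assoc, hlQa, ← Category.assoc, sp_comp, e]
  -- descent
  let p := sp (algebraMap A Q)
  have : Module.FaithfullyFlat A Q := faithfullyFlat_of_local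
  have : Flat p := by
    rw [HasRingHomProperty.Spec_iff (P := @Flat)]; exact RingHom.flat_algebraMap_iff.2 inferInstance
  have : Surjective p := ⟨PrimeSpectrum.comap_surjective_of_faithfullyFlat⟩
  have : IsArtinianRing (Q ⊗[A] Q) := IsArtinianRing.of_finite A _
  have hpair : pullback.fst p p ≫ lQ = pullback.snd p p ≫ lQ := by
    rw [← cancel_epi (pullbackSpecIso A Q Q).inv, pullbackSpecIso_inv_fst_assoc, pullbackSpecIso_inv_snd_assoc]
    let hA : A →+* Q ⊗[A] Q := algebraMap A _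
    refine eq_of_artinian hP hm (by simpa using hn.map hA) hn0 (I := I.map hA)
      (by rw [← Ideal.map_pow, hI, Ideal.map_bot]) ?_ ?_
    · let w : A ⧸ I →+* (Q ⊗[A] Q) ⧸ I.map hA := Ideal.quotientMap _ hA Ideal.le_comap_map
      simp only [← Category.assoc]
      refine Eq.trans (congrArg (· ≫ lQ) (sp_comp _ _)) (Eq.trans ?_ (congrArg (· ≫ lQ) (sp_comp _ _)).symm)
      rw [key _ _ w, key _ _ w]
      · refine RingHom.ext fun z => ?_
        show Ideal.Quotient.mk _ ((1 : Q) ⊗ₜ[A] algebraMap A Q z) = Ideal.Quotient.mk _ (hA z)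
        congr 1
        exact (Algebra.TensorProduct.includeRight (R := A) (A := Q) (B := Q)).commutes z
      · refine RingHom.ext fun z => ?_
        rfl
    · simp only [Category.assoc, hlQb]
      rw [← Category.assoc, ← Category.assoc, sp_comp]
      congr 1
      refine Eq.trans (congrArg Spec.map (CommRingCat.hom_ext ?_)) (Spec.map_comp _ _)
      exact RingHom.ext fun z =>
        ((Algebra.TensorProduct.includeLeft (R := A) (S := A) (A := Q) (B := Q)).commutes z).trans
          ((Algebra.TensorProduct.includeRight (R := A) (A := Q) (B := Q)).commutes z).symm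
  have hE : ∀ {W : Scheme.{u}} (g₁ g₂ : W ⟶ Spec (CommRingCat.of Q)), g₁ ≫ p = g₂ ≫ p → g₁ ≫ lQ = g₂ ≫ lQ :=
    fun g₁ g₂ hg => by
      rw [← pullback.lift_fst g₁ g₂ hg, Category.assoc, hpair, pullback.lift_snd_assoc]
  let l := EffectiveEpi.desc p lQ hE
  have hl : p ≫ l = lQ := EffectiveEpi.fac p lQ hE
  refine ⟨l, ?_, ?_⟩
  · have : Epi (pullback.snd p (iq I)) := Flat.epi_of_flat_of_surjective _
    rw [← cancel_epi (pullback.snd p (iq I)), ← reassoc_of% (pullback.condition (f := p) (g := iq I)), hl,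
      ← cancel_epi (pullbackSpecIso A Q (A ⧸ I)).inv, pullbackSpecIso_inv_fst_assoc]
    erw [pullbackSpecIso_inv_snd_assoc]
    refine key _ _ _ (RingHom.ext fun z => ?_)
    exact ((Algebra.TensorProduct.includeRight (R := A) (A := Q) (B := A ⧸ I)).commutes z).symm
  · haveI : Epi p := Flat.epi_of_flat_of_surjective _
    rw [← cancel_epi p, reassoc_of% hl]
    exact hlQb

end

end Groth.PicEtale
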