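import Groth.Agent.FlatMor2.TorsionLift
import Groth.Agent.Hensel1.Unibranch
import Groth.Agent.DescentBase.HenselSect
import Groth.Agent.PicLim.Lfp
import Mathlib.AlgebraicGeometry.Sites.EtalePoint

/-!
# Relative Picard functor over bases all of whose étale covers split; roots of units
-/

set_option autoImplicit false
set_option linter.style.haveILetI false
universe u

open CategoryTheory AlgebraicGeometry Limits Opposite IsLocalRing

noncomputable section

namespace Groth.PicEtale

open Groth.Abvar.PicCalc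
open scoped Groth.Abvar.PicCalc

/-- Units of an Artinian ring with separably closed residue fields are `n`-th powers for invertible `n`. -/
theorem exists_root_artinian {R B : Type u} [CommRing R] [IsLocalRing R] [IsSepClosed (ResidueField R)]
    [IsArtinianRing R] [CommRing B] [Algebra R B] [Module.Finite R B] {n : ℕ} (hn : IsUnit (n : R)) (hn0 : 0 < n)
    (v : Bˣ) : ∃ w : Bˣ, w ^ n = v := by
  have : IsArtinianRing B := IsArtinianRing.of_finite R B
  let e := IsArtinianRing.quotNilradicalEquivPi B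
  let ρ : B →+* Π I : MaximalSpectrum B, B ⧸ I.asIdeal := e.toRingHom.comp (Ideal.Quotient.mk _)
  have hsurj : Function.Surjective ρ := e.surjective.comp Ideal.Quotient.mk_surjective
  have hnil : ∀ a, ρ a = 0 → IsNilpotent a := fun a ha => by
    have : Ideal.Quotient.mk (nilradical B) a = 0 := e.injective (ha.trans (map_zero e).symm)
    exact mem_nilradical.1 (Ideal.Quotient.eq_zero_iff_mem.1 this)
  have hnB : IsUnit (n : B) := by simpa using hn.map (algebraMap R B)
  have hroot : ∀ I : MaximalSpectrum B, ∃ z : B ⧸ I.asIdeal, z ^ n = ρ v I := by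
    intro I
    have := I.isMaximal
    let _ : Field (B ⧸ I.asIdeal) := Ideal.Quotient.field I.asIdeal
    have hle : ∀ a ∈ maximalIdeal R, algebraMap R (B ⧸ I.asIdeal) a = 0 := fun a ha => by
      by_contra h
      exact (mem_maximalIdeal _).1 ha |>.elim <| by
        have hm : (I.asIdeal.comap (algebraMap R B)).IsMaximal :=
          Ideal.isMaximal_comap_of_isIntegral_of_isMaximal _
        have := eq_maximalIdeal hm
        refine absurd ?_ h
        rw [← this] at ha
        exact Ideal.Quotient.eq_zero_iff_mem.2 ha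
    let _ : Algebra (ResidueField R) (B ⧸ I.asIdeal) :=
      (Ideal.Quotient.lift (maximalIdeal R) (algebraMap R (B ⧸ I.asIdeal)) hle).toAlgebra
    have : IsScalarTower R (ResidueField R) (B ⧸ I.asIdeal) := IsScalarTower.of_algebraMap_eq fun _ => rfl
    have : Module.Finite (ResidueField R) (B ⧸ I.asIdeal) :=
      Module.Finite.of_restrictScalars_finite R _ _
    have := Groth.Hensel1.isSepClosed_of_isAlgebraic (ResidueField R) (B ⧸ I.asIdeal)
    have : NeZero ((n : B ⧸ I.asIdeal)) := ⟨by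
      simpa using (hnB.map (Ideal.Quotient.mk I.asIdeal)).ne_zero⟩
    exact IsSepClosed.exists_pow_nat_eq _ n
  choose z hz using hroot
  have hzu : IsUnit (z : Π I : MaximalSpectrum B, B ⧸ I.asIdeal) :=
    (isUnit_pow_iff hn0.ne').1 ((funext hz : (z : Π I : MaximalSpectrum B, B ⧸ I.asIdeal) ^ n = ρ v) ▸ v.isUnit.map ρ)
  obtain ⟨w, ⟨hw, -⟩, -⟩ := Groth.FlatMor2.existsUnique_root_lift ρ hsurj hnil n hn0
    (by simpa using hnB.map ρ) v z hzu (funext hz)
  exact ⟨((isUnit_pow_iff hn0.ne').1 (hw ▸ v.isUnit)).unit, Units.ext (by simpa using hw)⟩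

/-- All étale covers of `T` have sections. -/
def HasSections (T : Scheme.{u}) : Prop :=
  ∀ (ι : Type u) (U : ι → T.Etale), EtCoh.Covers U → ∃ (i : ι) (s : T ⟶ (U i).left), s ≫ (U i).hom = 𝟙 T

theorem hasSections_spec (R : Type u) [CommRing R] [HenselianLocalRing R] [IsSepClosed (ResidueField R)] :
    HasSections (Spec (CommRingCat.of R)) := by
  intro ι U hU
  obtain ⟨i, y, hy⟩ := hU (Groth.DescentBase.closedPt R default)
  haveI : Etale (U i).hom := (U i).prop
  obtain ⟨l, hl, -⟩ := Scheme.exists_fac_of_etale_of_isSepClosed (U i).hom (Groth.DescentBase.closedPt R) y hy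
  obtain ⟨r, -⟩ := Groth.DescentBase.exists_section R (U i) (Over.homMk l hl)
  exact ⟨i, r.left, Over.w r.hom⟩

variable {X S : Scheme.{u}} {f : X ⟶ S} {P : Over S} {φ : ∀ T : Over S, PicF.Cl (PicF.XT f T) → (T ⟶ P)}

theorem exists_class (hP : PicRel.IsRelPic f P φ) {T : Over S} (hT : HasSections T.left) (g : T ⟶ P) :
    ∃ c : PicLoc.PicSet (PicF.XT f T), φ T c.1 = g := by
  obtain ⟨ι, U, hU, hUi⟩ := hP.locallySurjective T g
  obtain ⟨i, s, hs⟩ := hT ι U hU
  obtain ⟨c, hc, hci⟩ := hUi i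
  let σ : T ⟶ PicRel.ovr T (U i) := Over.homMk s (by
    show s ≫ (U i).hom ≫ T.hom = T.hom; rw [reassoc_of% hs])
  refine ⟨pull (PicF.XTmap f σ) ⟨c, hc⟩, ?_⟩
  show φ T (PicF.pullCl (PicF.XTmap f σ) c) = g
  rw [hP.natural _ _ σ c hc, hci, ← Category.assoc]
  have hσ : σ ≫ PicRel.ovrHom T (U i) = 𝟙 T := Over.OverMorphism.ext hs
  rw [hσ, Category.id_comp]

theorem class_ext (hP : PicRel.IsRelPic f P φ) {T : Over S} (hT : HasSections T.left)
    {a b : PicLoc.PicSet (PicF.XT f T)} (h : φ T a.1 = φ T b.1) : a = b := by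
  obtain ⟨ι, U, hU, hUi⟩ := hP.locallyInjective T a.1 b.1 a.2 b.2 h
  obtain ⟨i, s, hs⟩ := hT ι U hU
  let σ : T ⟶ PicRel.ovr T (U i) := Over.homMk s (by
    show s ≫ (U i).hom ≫ T.hom = T.hom; rw [reassoc_of% hs])
  have hσ : σ ≫ PicRel.ovrHom T (U i) = 𝟙 T := Over.OverMorphism.ext hs
  have key : ∀ c : PicF.Cl (PicF.XT f T),
      PicF.pullCl (PicF.XTmap f σ) (PicF.pullCl (PicF.XTmap f (PicRel.ovrHom T (U i))) c) = c := fun c => by
    rw [← PicLoc.pullCl_comp, Groth.PicLim.XTmap_comp, hσ, Groth.PicLim.XTmap_id, PicLoc.pullCl_id]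
  exact Subtype.ext (by rw [← key a.1, hUi i, key])

/-- The morphism induced by `n`-th tensor powers on classes. -/
theorem phi_pow {n : ℕ} {m : P ⟶ P}
    (hm : ∀ (T : Over S) (L : (PicF.XT f T).Modules), PicF.IsInvertible L →
      φ T (PicF.cl (CohB1.tensorPow L n)) = φ T (PicF.cl L) ≫ m)
    (T : Over S) (c : PicLoc.PicSet (PicF.XT f T)) : φ T (c ^ n).1 = φ T c.1 ≫ m := by
  obtain ⟨L, hL, rfl⟩ := PicGrp.exists_eq_cls c
  rw [PicGrp.cls_pow_val]
  exact hm T L hL

end Groth.PicEtale
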