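import Groth.Agent.SmallExt.Algebra

/-!
# Smoothness from liftings after injective extensions of the test ring
-/

set_option autoImplicit false
universe u

open TensorProduct Groth.SmallExt

namespace Groth.PicEtale

variable (R A : Type u) [CommRing R] [CommRing A] [Algebra R A]

/-- Lifting along extensions of Artinian local algebras killed by the maximal ideal, after an
injective extension of the test algebra. -/
def HasLiftsUpToExt : Prop :=
  ∀ (B' : Type u) [CommRing B'] [Algebra R B'] [IsArtinianRing B'] [IsLocalRing B'] [Algebra.FiniteType R B']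
    (I : Ideal B'), I ≠ ⊤ → IsLocalRing.maximalIdeal B' * I = ⊥ → ∀ g : A →ₐ[R] B' ⧸ I,
    ∃ (Q : Type u) (_ : CommRing Q) (_ : Algebra R Q) (ι : B' →ₐ[R] Q) (_ : Function.Injective ι)
      (g' : A →ₐ[R] Q), ∀ (a : A) (b : B'), Ideal.Quotient.mk I b = g a → g' a - ι b ∈ I.map ι.toRingHom

variable {R A}

theorem exists_algHom_of_ker_le {B C : Type*} [CommRing B] [CommRing C] [Algebra R B] [Algebra R C]
    (π : B →ₐ[R] A) (hπ : Function.Surjective π) (Φ : B →ₐ[R] C)
    (h : ∀ x, π x = 0 → Φ x = 0) :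
    ∃ g : A →ₐ[R] C, ∀ x, g (π x) = Φ x :=
  ⟨AlgHom.liftOfSurjective π hπ Φ fun _ hx => h _ hx, fun _ => AlgHom.liftOfSurjective_apply π hπ Φ _ _⟩

/-- The key step: relations with vanishing differential at a maximal ideal lie in `M * J`. -/
theorem mem_mul_of_pderiv_mem [IsNoetherianRing R] (H : HasLiftsUpToExt R A) {n : ℕ}
    (π : MvPolynomial (Fin n) R →ₐ[R] A) (hπ : Function.Surjective π)
    (M : Ideal (MvPolynomial (Fin n) R)) [hM : M.IsMaximal] (hJM : RingHom.ker π ≤ M)
    {f : MvPolynomial (Fin n) R} (hf : f ∈ RingHom.ker π)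
    (hd : ∀ i, MvPolynomial.pderiv i f ∈ M) : f ∈ M * RingHom.ker π := by
  let J : Ideal (MvPolynomial (Fin n) R) := RingHom.ker π
  obtain ⟨k, hk⟩ := Ideal.exists_pow_inf_eq_pow_smul M J
  have hAR : M ^ (k + 1) ⊓ J ≤ M * J := by
    have h1 := hk (k + 1) (Nat.le_succ k)
    simp only [smul_eq_mul, Ideal.mul_top, add_tsub_cancel_left, pow_one] at h1
    rw [h1]
    exact Ideal.mul_mono_right inf_le_right
  let K := M * J ⊔ M ^ (k + 1)
  have hKM : K ≤ M := sup_le Ideal.mul_le_left (Ideal.pow_le_self (Nat.succ_ne_zero k))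
  have hKpow : M ^ (k + 1) ≤ K := le_sup_right
  let q := Ideal.Quotient.mkₐ R K
  have hq : Function.Surjective q := Ideal.Quotient.mk_surjective
  have hmax : ∀ N : Ideal (MvPolynomial (Fin n) R ⧸ K), N.IsPrime → N = M.map (Ideal.Quotient.mk K) := by
    intro N hN
    have h1 : M ≤ N.comap (Ideal.Quotient.mk K) :=
      (Ideal.IsPrime.pow_le_iff (Nat.succ_ne_zero k)).1
        (hKpow.trans fun x hx => by simp [Ideal.mem_comap, Ideal.Quotient.eq_zero_iff_mem.2 hx])
    rw [hM.eq_of_le (Ideal.IsPrime.ne_top inferInstance) h1,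
      Ideal.map_comap_of_surjective _ Ideal.Quotient.mk_surjective]
  have : Nontrivial (MvPolynomial (Fin n) R ⧸ K) :=
    Ideal.Quotient.nontrivial_iff.2 fun h => hM.ne_top (top_le_iff.1 (h ▸ hKM))
  obtain ⟨N₀, hN₀⟩ := Ideal.exists_maximal (MvPolynomial (Fin n) R ⧸ K)
  have : IsLocalRing (MvPolynomial (Fin n) R ⧸ K) := IsLocalRing.of_unique_max_ideal
    ⟨N₀, hN₀, fun N hN => (hmax N hN.isPrime).trans (hmax N₀ hN₀.isPrime).symm⟩
  have hmaxIdeal : IsLocalRing.maximalIdeal (MvPolynomial (Fin n) R ⧸ K) =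
      M.map (Ideal.Quotient.mk K) := hmax _ inferInstance
  have : IsArtinianRing (MvPolynomial (Fin n) R ⧸ K) := by
    rw [isArtinianRing_iff_isNilpotent_maximalIdeal]
    refine ⟨k + 1, ?_⟩
    rw [hmaxIdeal, ← Ideal.map_pow, Ideal.zero_eq_bot, Ideal.map_eq_bot_iff_le_ker, Ideal.mk_ker]
    exact hKpow
  let I : Ideal (MvPolynomial (Fin n) R ⧸ K) := (J ⊔ M ^ (k + 1)).map (Ideal.Quotient.mk K)
  have hIM : I ≤ M.map (Ideal.Quotient.mk K) :=
    Ideal.map_mono (sup_le hJM (Ideal.pow_le_self (Nat.succ_ne_zero k)))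
  have hmI : IsLocalRing.maximalIdeal _ * I = ⊥ := by
    rw [hmaxIdeal, ← Ideal.map_mul, Ideal.map_eq_bot_iff_le_ker, Ideal.mk_ker, Ideal.mul_sup]
    exact sup_le le_sup_left ((Ideal.mul_le_right).trans le_sup_right)
  have hI : I ≠ ⊤ := fun h => (IsLocalRing.maximalIdeal.isMaximal _).ne_top
    (top_le_iff.1 (h ▸ hmaxIdeal ▸ hIM))
  have hFT : Algebra.FiniteType R (MvPolynomial (Fin n) R ⧸ K) :=
    Algebra.FiniteType.of_surjective q hq
  let Φ : MvPolynomial (Fin n) R →ₐ[R] (MvPolynomial (Fin n) R ⧸ K) ⧸ I := (Ideal.Quotient.mkₐ R I).comp q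
  have hker : ∀ x, π x = 0 → Φ x = 0 := fun x hx => by
    refine Ideal.Quotient.eq_zero_iff_mem.2 (show q x ∈ I from ?_)
    exact Ideal.mem_map_of_mem _ (Ideal.mem_sup_left (RingHom.mem_ker.2 hx))
  obtain ⟨g₀, hg₀⟩ := @exists_algHom_of_ker_le R A _ _ _ (MvPolynomial (Fin n) R)
    ((MvPolynomial (Fin n) R ⧸ K) ⧸ I) _ _ _ _ π hπ Φ hker
  obtain ⟨Q, _, _, ι, hι, g', hg'⟩ := H _ I hI hmI g₀
  let q' : MvPolynomial (Fin n) R →ₐ[R] Q := ι.comp q
  let I' : Ideal Q := I.map ι.toRingHom
  have hX : ∀ i, (g'.comp π) (MvPolynomial.X i) - q' (MvPolynomial.X i) ∈ I' := fun i =>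
    hg' _ _ (hg₀ _).symm
  have hII : I * I = ⊥ := le_bot_iff.1
    ((Ideal.mul_mono_left (hmaxIdeal ▸ hIM)).trans hmI.le)
  have hII' : I' * I' = ⊥ := by rw [← Ideal.map_mul, hII, Ideal.map_bot]
  have key := sub_eq_sum_pderiv (g'.comp π) q' I' hII' hX f
  rw [Finset.sum_eq_zero fun i _ => ?_, AlgHom.comp_apply, RingHom.mem_ker.1 hf, map_zero, zero_sub,
    neg_eq_zero] at key
  · have key' : q f = 0 := hι (key.trans (map_zero ι).symm)
    obtain ⟨a, ha, b, hb, rfl⟩ := Submodule.mem_sup.1 (Ideal.Quotient.eq_zero_iff_mem.1 key')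
    have hbJ : b ∈ J := by
      have := J.sub_mem hf (Ideal.mul_le_right (I := M) ha)
      rwa [add_sub_cancel_left] at this
    exact add_mem ha (hAR ⟨hb, hbJ⟩)
  · rw [← Ideal.mem_bot, ← (show (IsLocalRing.maximalIdeal (MvPolynomial (Fin n) R ⧸ K)).map ι.toRingHom * I' = ⊥ by
      rw [← Ideal.map_mul, hmI, Ideal.map_bot])]
    refine Ideal.mul_mem_mul (Ideal.mem_map_of_mem _ ?_) (hX i)
    rw [hmaxIdeal]
    exact Ideal.mem_map_of_mem _ (hd i)

open IsLocalRing in
/-- Lifting along small extensions gives smoothness at maximal ideals. -/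
theorem HasLiftsUpToExt.isSmoothAt [IsNoetherianRing R] [Algebra.FiniteType R A]
    (H : HasLiftsUpToExt R A) (m : Ideal A) [hm : m.IsMaximal] : Algebra.IsSmoothAt R m := by
  obtain ⟨n, π, hπ⟩ := Algebra.FiniteType.iff_quotient_mvPolynomial''.mp
    (inferInstance : Algebra.FiniteType R A)
  let M : Ideal (MvPolynomial (Fin n) R) := m.comap π
  have hMmax : M.IsMaximal := Ideal.comap_isMaximal_of_surjective π hπ
  have hJM : RingHom.ker π ≤ M := fun x hx => by
    rw [Ideal.mem_comap, RingHom.mem_ker.1 hx]; exact m.zero_mem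
  let P := Localization.AtPrime M
  let S := Localization.AtPrime m
  let fP : P →ₐ[R] S := IsLocalization.liftAlgHom (M := M.primeCompl)
      (f := (IsScalarTower.toAlgHom R A S).comp π) fun x => by
    simpa using IsLocalization.map_units (M := m.primeCompl) S ⟨π x.1, x.2⟩
  have hfP : ∀ x, fP (algebraMap _ P x) = algebraMap A S (π x) := fun x => by
    simp [fP]
  have h₁ : Function.Surjective fP := by
    intro x
    obtain ⟨x, ⟨s, hs⟩, rfl⟩ := IsLocalization.exists_mk'_eq m.primeCompl x
    obtain ⟨x, rfl⟩ := hπ x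
    obtain ⟨s, rfl⟩ := hπ s
    refine ⟨IsLocalization.mk' (M := M.primeCompl) _ x ⟨s, hs⟩, ?_⟩
    simp [fP, IsLocalization.lift_mk', Units.mul_inv_eq_iff_eq_mul, IsUnit.liftRight]
  algebraize [fP.toRingHom]
  have : IsScalarTower R P S := .of_algebraMap_eq fun r => (fP.commutes r).symm
  have : Algebra.FormallyEtale (MvPolynomial (Fin n) R) P := .of_isLocalization M.primeCompl
  have : Algebra.FormallySmooth R P := .comp _ (MvPolynomial (Fin n) R) _
  let e := KaehlerDifferential.tensorKaehlerEquivOfFormallyEtale R (MvPolynomial (Fin n) R) P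
  have : Module.Free P Ω[P⁄R] := .of_equiv e
  have : Module.Finite P Ω[P⁄R] := .equiv e
  have : IsNoetherianRing P := IsLocalization.isNoetherianRing M.primeCompl _ inferInstance
  change Algebra.FormallySmooth R S
  rw [Algebra.FormallySmooth.iff_injective_cotangentComplexBaseChange_residueField P h₁
    (IsNoetherian.noetherian _), injective_iff_map_eq_zero]
  intro x hx
  obtain ⟨f', rfl⟩ := TensorProduct.mk_surjective P _ (ResidueField S)
    ((IsLocalRing.residue_surjective).comp h₁) x
  obtain ⟨p, ⟨s, hs⟩, hps⟩ := IsLocalization.exists_mk'_eq M.primeCompl f'.1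
  have hspec : f'.1 * algebraMap _ P s = algebraMap _ P p := by rw [← hps, IsLocalization.mk'_spec]
  obtain ⟨⟨a, ha⟩, ha0⟩ : ∃ a : m.primeCompl, ↑a * π p = 0 := by
    refine (IsLocalization.map_eq_zero_iff m.primeCompl S _).1 ?_
    rw [← hfP, ← hspec, map_mul]
    exact mul_eq_zero_of_left (RingHom.mem_ker.1 f'.2) _
  obtain ⟨a, rfl⟩ := hπ a
  let f₀ := a * p
  have hf₀ : f₀ ∈ RingHom.ker π := by rw [RingHom.mem_ker, map_mul]; exact ha0
  let c : P := algebraMap _ P (a * s)
  have hc : IsUnit c := IsLocalization.map_units (M := M.primeCompl) P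
    ⟨a * s, M.primeCompl.mul_mem (fun h => ha h) hs⟩
  let j₀ : RingHom.ker (algebraMap P S) := ⟨algebraMap _ P f₀, by
    rw [RingHom.mem_ker]; exact (hfP f₀).trans (by rw [RingHom.mem_ker.1 hf₀, map_zero])⟩
  have hj : c • f' = j₀ := Subtype.ext <| by
    change c * f'.1 = algebraMap _ P (a * p)
    simp only [c, map_mul]
    rw [mul_assoc, mul_comm (algebraMap _ P s), hspec]
  have hres : (1 : ResidueField S) ⊗ₜ[P] f' = hc.unit⁻¹.1 • ((1 : ResidueField S) ⊗ₜ[P] j₀) := by
    rw [← tmul_smul, ← hj, smul_smul, IsUnit.val_inv_mul, one_smul]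
  have h0 : (1 : ResidueField S) ⊗ₜ[P] KaehlerDifferential.D R P (algebraMap _ P f₀) = 0 := by
    have e1 : KaehlerDifferential.cotangentComplexBaseChange R S P (ResidueField S)
        ((1 : ResidueField S) ⊗ₜ[P] j₀) =
        (1 : ResidueField S) ⊗ₜ[P] KaehlerDifferential.D R P (algebraMap _ P f₀) := by
      rw [KaehlerDifferential.cotangentComplexBaseChange_tmul, one_smul]
      rfl
    rw [← e1, ← hj, tmul_smul, ← algebraMap_smul (ResidueField S) c, map_smul]
    change algebraMap P (ResidueField S) c • _ = _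
    erw [hx, smul_zero]
  have hkey : ∀ y : MvPolynomial (Fin n) R,
      algebraMap P (ResidueField S) (algebraMap _ P y) = 0 → y ∈ M := by
    intro y hy
    by_contra h
    exact ((IsLocalization.map_units (M := M.primeCompl) P ⟨y, h⟩).map
      (algebraMap P (ResidueField S))).ne_zero hy
  have hd : ∀ i, MvPolynomial.pderiv i f₀ ∈ M := by
    intro i
    let E : Ω[P⁄R] →ₗ[P] ResidueField S :=
      (Algebra.linearMap P (ResidueField S)).comp
        ((LinearMap.liftBaseChange P ((Algebra.linearMap (MvPolynomial (Fin n) R) P).comp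
          ((KaehlerDifferential.mvPolynomialBasis R (Fin n)).coord i))).comp e.symm.toLinearMap)
    have hE : E (KaehlerDifferential.D R P (algebraMap _ P f₀)) =
        algebraMap P (ResidueField S) (algebraMap _ P (MvPolynomial.pderiv i f₀)) := by
      have : e.symm (KaehlerDifferential.D R P (algebraMap _ P f₀)) =
          (1 : P) ⊗ₜ KaehlerDifferential.D R (MvPolynomial (Fin n) R) f₀ :=
        e.symm_apply_eq.2 (by simp [e]; exact (one_smul P (KaehlerDifferential.D R P (algebraMap (MvPolynomial (Fin n) R) P f₀))).symm)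
      simp [E, this, Module.Basis.coord_apply, KaehlerDifferential.mvPolynomialBasis_repr_apply]
    refine hkey _ ?_
    have := congrArg (LinearMap.liftBaseChange (ResidueField S) E) h0
    rwa [LinearMap.liftBaseChange_tmul, one_smul, map_zero, hE] at this
  have hmem := mem_mul_of_pderiv_mem H π hπ M hJM hf₀ hd
  have hz : (1 : ResidueField S) ⊗ₜ[P] j₀ = 0 := by
    have : ∀ y (hy : y ∈ M * RingHom.ker π), ∀ (h : algebraMap _ P y ∈ RingHom.ker (algebraMap P S)),
        (1 : ResidueField S) ⊗ₜ[P] (⟨algebraMap _ P y, h⟩ : RingHom.ker (algebraMap P S)) = 0 := by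
      intro y hy
      induction hy using Submodule.mul_induction_on' with
      | mem_mul_mem b hb j hj' =>
        intro h
        have hj'' : algebraMap _ P j ∈ RingHom.ker (algebraMap P S) := by
          rw [RingHom.mem_ker]; exact (hfP j).trans (by rw [RingHom.mem_ker.1 hj', map_zero])
        have e2 : (⟨algebraMap _ P (b * j), h⟩ : RingHom.ker (algebraMap P S)) =
            algebraMap _ P b • (⟨algebraMap _ P j, hj''⟩ : RingHom.ker (algebraMap P S)) :=
          Subtype.ext (map_mul _ _ _)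
        have hb0 : algebraMap P (ResidueField S) (algebraMap _ P b) = 0 := by
          rw [IsScalarTower.algebraMap_apply P S (ResidueField S)]
          refine (IsLocalRing.residue_eq_zero_iff _).2 ?_
          change fP (algebraMap _ P b) ∈ _
          rw [hfP]
          exact (IsLocalization.AtPrime.to_map_mem_maximal_iff S m (π b)).2 hb
        rw [e2, tmul_smul, ← algebraMap_smul (ResidueField S), hb0, zero_smul]
      | add y hy z hz iy iz =>
        intro h
        have hmem : ∀ w ∈ M * RingHom.ker π, algebraMap _ P w ∈ RingHom.ker (algebraMap P S) :=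
          fun w hw => by
            rw [RingHom.mem_ker]
            exact (hfP w).trans (by rw [RingHom.mem_ker.1 (Ideal.mul_le_right hw), map_zero])
        have e3 : (⟨algebraMap _ P (y + z), h⟩ : RingHom.ker (algebraMap P S)) =
            ⟨algebraMap _ P y, hmem y hy⟩ + ⟨algebraMap _ P z, hmem z hz⟩ :=
          Subtype.ext (map_add _ _ _)
        rw [e3, tmul_add, iy, iz, add_zero]
    exact this f₀ hmem _
  change (1 : ResidueField S) ⊗ₜ[P] f' = 0
  rw [hres, hz, smul_zero]

/-- Lifting along small extensions gives smoothness. -/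
theorem HasLiftsUpToExt.smooth [IsNoetherianRing R] [Algebra.FiniteType R A]
    (H : HasLiftsUpToExt R A) : Algebra.Smooth R A := by
  have : Algebra.FinitePresentation R A := Algebra.FinitePresentation.of_finiteType.1 inferInstance
  refine ⟨Algebra.smoothLocus_eq_univ_iff.1 (Set.eq_univ_iff_forall.2 fun p => ?_), inferInstance⟩
  by_contra hp
  obtain ⟨x, hx, hxc⟩ :=
    IsClosed.exists_closed_singleton (Algebra.isOpen_smoothLocus (R := R) (A := A)).isClosed_compl
      ⟨p, hp⟩
  have := (PrimeSpectrum.isClosed_singleton_iff_isMaximal x).1 hxc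
  exact hx (H.isSmoothAt x.asIdeal)

end Groth.PicEtale
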