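import Groth.Agent.PicEtale.SmoothLift
import Groth.Agent.CohC3.BC.Global
import Groth.Agent.CohBase.FiniteBC.Main
import Groth.Agent.FBaseGeom.AssTensor
import Groth.Agent.LocFree.FP
import Mathlib.RingTheory.Jacobson.Ring

/-!
# The open locus where `H²` of the fibres vanishes
-/

set_option autoImplicit false
set_option linter.style.haveILetI false
universe u

open CategoryTheory AlgebraicGeometry Limits Opposite TensorProduct

noncomputable section

namespace Groth.PicEtale

/-- Transport of vanishing of cohomology along an isomorphism of modules. -/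
theorem subsingleton_HH_congr {X : Scheme.{u}} {M N : X.Modules} (e : M ≅ N) (n : ℕ)
    (h : Subsingleton (Coh.HH X M n)) : Subsingleton (Coh.HH X N n) :=
  @Equiv.subsingleton _ _ (((Sheaf.functorH _ n).mapIso ((SheafOfModules.toSheaf.{u} X.ringCatSheaf).mapIso
    e)).addCommGroupIsoToAddEquiv).toEquiv.symm h

/-- Vanishing of cohomology of the structure sheaf passes to finite field extensions. -/
theorem subsingleton_HH_bc {A B : Type u} [Field A] [Field B] (ψ : A →+* B) (hψ : ψ.FiniteType)
    {Y Y' : Scheme.{u}} {σ : Y ⟶ Spec (CommRingCat.of A)} {σ' : Y' ⟶ Spec (CommRingCat.of B)}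
    {g' : Y' ⟶ Y} (sq : IsPullback g' σ' σ (Spec.map (CommRingCat.ofHom ψ))) (n : ℕ)
    (h : Subsingleton (Coh.HH Y (Coh.structureModule Y) n)) :
    Subsingleton (Coh.HH Y' (Coh.structureModule Y') n) := by
  let _ : Algebra A B := ψ.toAlgebra
  have : Algebra.FiniteType A B := hψ
  have : Module.Finite A B := finite_of_finite_type_of_isJacobsonRing _ _
  have hqy : (Coh.structureModule Y).IsQuasicoherent := Groth.QCohMod.isQCoh_unit _
  obtain ⟨e⟩ := Groth.CohBase.FiniteBC.exists_finite_bc_linEquiv (A := A) (B := B) sq (Coh.structureModule Y) n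
  have h1 : Subsingleton (Groth.CohFin.HA σ (Coh.structureModule Y) n) := h
  exact subsingleton_HH_congr (Groth.PicAux.pullback_structure_iso g').some n
    (@Equiv.subsingleton _ _ e.symm.toEquiv inferInstance)

variable {X S : Scheme.{u}} (f : X ⟶ S)

theorem exists_fibreH2Zero [IsLocallyNoetherian S] [IsProper f] [Flat f] (s : S)
    (h2 : Subsingleton (Coh.HH (pullback f (S.fromSpecResidueField s)) (Coh.structureModule _) 2)) :
    ∃ U : S.Opens, s ∈ U ∧ FibreH2Zero f U := by
  have hq : (Coh.structureModule X).IsQuasicoherent := Groth.QCohMod.isQCoh_unit X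
  have hfp : CohB1.IsFP (Coh.structureModule X) := Groth.LocFree.isFP_of_affine_cover _ fun x => by
    obtain ⟨A, hA, hxA, -⟩ := exists_isAffineOpen_mem_and_subset (U := (⊤ : X.Opens)) (x := x) trivial
    exact ⟨A, hA, hxA, (inferInstance : Module.FinitePresentation Γ(X, A) Γ(X, A))⟩
  obtain ⟨U, hU⟩ := Groth.CohC3.BC.exists_vanish_open (f := f) hfp
    (Groth.FBaseGeom.isFlatOver_structureModule f) 2
  refine ⟨U, (hU s).2 (subsingleton_HH_congr (Groth.PicAux.pullback_structure_iso (f.fiberι s)).some.symm 2 h2),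
    fun K _ g hg hgU => ?_⟩
  obtain ⟨⟨y, ψ⟩, rfl⟩ := (Scheme.SpecToEquivOfField K S).symm.surjective g
  have hy : y ∈ U := hgU ⟨IsLocalRing.closedPoint K, by
    show (Spec.map ψ ≫ S.fromSpecResidueField y) _ = y
    simp⟩
  change LocallyOfFiniteType (Spec.map ψ ≫ S.fromSpecResidueField y) at hg
  have hψ : LocallyOfFiniteType (Spec.map ψ) := locallyOfFiniteType_of_comp _ (S.fromSpecResidueField y)
  rw [HasRingHomProperty.Spec_iff (P := @LocallyOfFiniteType)] at hψ
  let gg : Spec (CommRingCat.of K) ⟶ S := Spec.map ψ ≫ S.fromSpecResidueField y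
  let g' : pullback f gg ⟶ f.fiber y :=
    pullback.lift (pullback.fst f gg) (pullback.snd f gg ≫ Spec.map ψ) (by
      rw [Category.assoc]; exact pullback.condition)
  have h0 : Subsingleton (Coh.HH (f.fiber y) (Coh.structureModule _) 2) :=
    subsingleton_HH_congr (Groth.PicAux.pullback_structure_iso (f.fiberι y)).some 2 ((hU y).1 hy)
  refine subsingleton_HH_bc (A := S.residueField y) (B := K) ψ.hom hψ (g' := g')
    (σ := f.fiberToSpecResidueField y) (σ' := pullback.snd f gg) ?_ 2 h0
  refine IsPullback.of_right (t := IsPullback.of_hasPullback f (S.fromSpecResidueField y)) ?_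
    (pullback.lift_snd _ _ _)
  have e : g' ≫ pullback.fst f (S.fromSpecResidueField y) = pullback.fst f gg := pullback.lift_fst _ _ _
  refine e.symm ▸ ?_
  exact IsPullback.of_hasPullback f gg

end Groth.PicEtale
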