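import Groth.Agent.PicEtale.Exist
import Groth.Agent.FormalPic.IdealVanish
import Mathlib.RingTheory.Unramified.LocalRing
import Mathlib.RingTheory.Flat.FaithfullyFlat.Algebra

/-!
# Lifting points of the relative Picard functor where the second cohomology vanishes
-/

set_option autoImplicit false
set_option linter.style.haveILetI false
universe u

open CategoryTheory AlgebraicGeometry Limits Opposite IsLocalRing TensorProduct

noncomputable section

namespace Groth.PicEtale

open Groth.Abvar.PicCalc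
open scoped Groth.Abvar.PicCalc

section

variable {X X₀ : Scheme.{u}} (j : X₀ ⟶ X) [IsClosedImmersion j] (hj : j.ker * j.ker = ⊥)

include hj in
/-- Classes lift along a first order thickening with vanishing `H²` of the ideal. -/
theorem exists_lift_of_h2 (h2 : Subsingleton (Coh.HH X (ClSub.idealMod j.ker) 2))
    (c₀ : PicLoc.PicSet X₀) : ∃ c : PicLoc.PicSet X, pull j c = c₀ := by
  obtain ⟨ε, δ₀, α, δ₁, -, -, -, -, -, hδ₁⟩ :=
    Groth.PicAux.PicExpSeq.exists_sequence (I := j.ker) (pullMulCl _) hj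
  have hie : j.toImage ≫ j.ker.subschemeι = j := j.toImage_imageι
  obtain ⟨c₁, hc₁⟩ : pull (inv j.toImage) c₀ ∈ (pull j.ker.subschemeι).range := hδ₁ ▸
    MonoidHom.mem_ker.2 (Multiplicative.toAdd.injective (Subsingleton.elim _ _))
  refine ⟨c₁, ?_⟩
  have hpull : pull j c₁ = pull j.toImage (pull j.ker.subschemeι c₁) := by
    rw [← pull_comp]; exact Subtype.ext (by rw [pull, pull, PicGrp.pullHom_apply_val, PicGrp.pullHom_apply_val, hie])
  rw [hpull, hc₁, ← pull_comp]
  exact Subtype.ext (by rw [pull, PicGrp.pullHom_apply_val, IsIso.hom_inv_id, PicLoc.pullCl_id])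

end

variable {X S : Scheme.{u}} {f : X ⟶ S} {P : Over S} {φ : ∀ T : Over S, PicF.Cl (PicF.XT f T) → (T ⟶ P)}

/-- Vanishing of `H²` of the structure sheaf on fibres over points with finite type residue fields. -/
def FibreH2Zero (f : X ⟶ S) (U : S.Opens) : Prop :=
  ∀ (K : Type u) [Field K] (g : Spec (CommRingCat.of K) ⟶ S), LocallyOfFiniteType g →
    Set.range g ⊆ U → Subsingleton (Coh.HH (pullback f g) (Coh.structureModule _) 2)

theorem subsingleton_primeSpectrum {B : Type u} [CommRing B] [IsArtinianRing B] [IsLocalRing B]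
    (a b : Spec (CommRingCat.of B)) : a = b :=
  PrimeSpectrum.ext <| by
    rw [IsLocalRing.eq_maximalIdeal (IsArtinianRing.isMaximal_of_isPrime a.asIdeal),
      IsLocalRing.eq_maximalIdeal (IsArtinianRing.isMaximal_of_isPrime b.asIdeal)]

/-- Lifting of points of the Picard functor along small extensions, after a finite étale extension. -/
theorem exists_lift_ext (hP : PicRel.IsRelPic f P φ) [IsProper f] [Flat f] {U : S.Opens}
    (hU : FibreH2Zero f U) {B' : Type u} [CommRing B'] [IsArtinianRing B'] [IsLocalRing B']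
    {I : Ideal B'} (hI : I ≠ ⊤) (hmI : maximalIdeal B' * I = ⊥)
    (a : Spec (CommRingCat.of (B' ⧸ I)) ⟶ P.left) (β : Spec (CommRingCat.of B') ⟶ S)
    [LocallyOfFiniteType β] (hβU : Set.range β ⊆ U) (w : iq I ≫ β = a ≫ P.hom) :
    ∃ (Q : Type u) (_ : CommRing Q) (_ : Algebra B' Q) (_ : IsArtinianRing Q) (_ : IsLocalRing Q)
      (γ : Spec (CommRingCat.of Q) ⟶ P.left), Function.Injective (algebraMap B' Q) ∧
      iq (I.map (algebraMap B' Q)) ≫ γ =
        sp (Ideal.quotientMap (I.map (algebraMap B' Q)) (algebraMap B' Q) Ideal.le_comap_map) ≫ a ∧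
      γ ≫ P.hom = sp (algebraMap B' Q) ≫ β := by
  have hI2 : I ^ 2 = ⊥ := le_bot_iff.1 ((pow_two I).le.trans
    ((Ideal.mul_mono_left (IsLocalRing.le_maximalIdeal hI)).trans hmI.le))
  have : Nontrivial (B' ⧸ I) := Ideal.Quotient.nontrivial_iff.2 hI
  have : IsLocalRing (B' ⧸ I) := IsLocalRing.of_surjective' _ Ideal.Quotient.mk_surjective
  obtain ⟨B₀, _, _, _, _, _, c₀, hc₀⟩ :=
    exists_class_local hP (b := a ≫ P.hom) (Over.homMk a rfl : Over.mk (a ≫ P.hom) ⟶ P)
  let _ : Algebra B' B₀ := ((algebraMap (B' ⧸ I) B₀).comp (Ideal.Quotient.mk I)).toAlgebra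
  have : IsScalarTower B' (B' ⧸ I) B₀ := IsScalarTower.of_algebraMap_eq fun _ => rfl
  obtain ⟨Q, _, _, π, hQe, hπ, hker⟩ := Groth.AlgStBasic.SmoothDescent.exists_etale_lift
    (P := B') (B := B' ⧸ I) (C := B₀) Ideal.Quotient.mk_surjective
  let K := I.map (algebraMap B' Q)
  have hK : RingHom.ker π.toRingHom = K := by
    rw [hker, Ideal.Quotient.algebraMap_eq, Ideal.mk_ker]
  have hK2 : K ^ 2 = ⊥ := by rw [← Ideal.map_pow, hI2, Ideal.map_bot]
  have : Nontrivial Q := π.toRingHom.domain_nontrivial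
  have : IsLocalRing Q := by
    refine IsLocalRing.of_isUnit_or_isUnit_one_sub_self fun x => ?_
    have hu : ∀ z, IsUnit (π z) → IsUnit z := fun z hz => by
      obtain ⟨w, hw⟩ := hπ ↑hz.unit⁻¹
      have hmem : z * w - 1 ∈ K := hK ▸ (RingHom.mem_ker.2 (by simp [hw]) : z * w - 1 ∈ RingHom.ker π.toRingHom)
      have hnil : IsNilpotent (z * w - 1) := ⟨2, by simpa [hK2] using Ideal.pow_mem_pow hmem 2⟩
      have h1 := hnil.isUnit_add_one
      rw [sub_add_cancel] at h1
      exact isUnit_of_mul_isUnit_left h1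
    exact (IsLocalRing.isUnit_or_isUnit_one_sub_self (π x)).imp (hu x) fun h => hu _ (by rwa [map_sub, map_one])
  have : Module.Finite B' Q := Module.Finite.of_quasiFinite
  have : IsArtinianRing Q := IsArtinianRing.of_finite B' Q
  have := isLocalHom_of_finite (A := B') (B := Q)
  have : Module.FaithfullyFlat B' Q := faithfullyFlat_of_local
  let k : B₀ →+* Q ⧸ K :=
    (Ideal.quotEquivOfEq hK).toRingHom.comp (RingHom.quotientKerEquivOfSurjective hπ).symm.toRingHom
  have hk : ∀ z, k (π z) = Ideal.Quotient.mk K z := fun z => by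
    show Ideal.quotEquivOfEq hK ((RingHom.quotientKerEquivOfSurjective hπ).symm (π z)) = _
    rw [show (RingHom.quotientKerEquivOfSurjective hπ).symm (π z) = Ideal.Quotient.mk _ z from
      (RingEquiv.symm_apply_eq _).2 rfl]
    rfl
  let αQ : B' ⧸ I →+* Q ⧸ K := Ideal.quotientMap K (algebraMap B' Q) Ideal.le_comap_map
  have hkα : k.comp (algebraMap (B' ⧸ I) B₀) = αQ := Ideal.Quotient.ringHom_ext (RingHom.ext fun z => by
    show k (algebraMap B' B₀ z) = Ideal.Quotient.mk K (algebraMap B' Q z)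
    rw [← π.commutes, hk])
  let bQ := sp (algebraMap B' Q) ≫ β
  have hτ : sp k ≫ sp (algebraMap (B' ⧸ I) B₀) ≫ a ≫ P.hom = iq K ≫ bQ := by
    rw [← w, ← Category.assoc, sp_comp, hkα, ← Category.assoc, sp_comp]
    simp only [bQ, ← Category.assoc]
    rw [sp_comp]
    rfl
  let τ : Over.mk (iq K ≫ bQ) ⟶ Over.mk (sp (algebraMap (B' ⧸ I) B₀) ≫ a ≫ P.hom) :=
    Over.homMk (sp k) hτ
  have hfot := fot_XTmap (f := f) hK2 bQ
  have : IsClosedImmersion (PicF.XTmap f (jq K bQ)) := hfot.1.1
  have hKm : K * maximalIdeal Q = ⊥ := by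
    rw [← Algebra.FormallyUnramified.map_maximalIdeal (R := B') (S := Q), ← Ideal.map_mul, mul_comm, hmI,
      Ideal.map_bot]
  have h2 : Subsingleton (Coh.HH (PicF.XT f (Over.mk bQ))
      (ClSub.idealMod (PicF.XTmap f (jq K bQ)).ker) 2) := by
    refine Groth.FormalPic.subsingleton_hh_idealMod (f := PicF.XTproj f (Over.mk bQ)) (J := K)
      (M := maximalIdeal Q) (PicF.XTmap f (jq (maximalIdeal Q) bQ)) (IsNoetherian.noetherian K) hKm
      (Groth.PicAux.RelPicSep.isPullback_XTmap f (jq (maximalIdeal Q) bQ))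
      (Groth.PicAux.RelPicSep.isPullback_XTmap f (jq K bQ)) 2 ?_
    let _ : Field (Q ⧸ maximalIdeal Q) := Ideal.Quotient.field _
    have : LocallyOfFiniteType (sp (algebraMap B' Q)) :=
      (HasRingHomProperty.Spec_iff (P := @LocallyOfFiniteType)).2
        (RingHom.finiteType_algebraMap.2 inferInstance)
    refine hU (Q ⧸ maximalIdeal Q) (iq (maximalIdeal Q) ≫ bQ) inferInstance ?_
    rintro _ ⟨x, rfl⟩
    exact hβU ⟨_, rfl⟩
  obtain ⟨c, hc⟩ := exists_lift_of_h2 (PicF.XTmap f (jq K bQ)) hfot.2 h2 (pull (PicF.XTmap f τ) c₀)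
  refine ⟨Q, inferInstance, inferInstance, inferInstance, inferInstance, (φ _ c.1).left,
    FaithfulSMul.algebraMap_injective B' Q, ?_, Over.w (φ _ c.1)⟩
  refine Eq.trans ?_ ((congrArg (fun z => (φ _ z.1).left) hc).trans ?_)
  · exact (congrArg (fun w => w.left) (hP.natural _ _ (jq K bQ) c.1 c.2)).symm
  · refine (congrArg (fun w => w.left) (hP.natural _ _ τ c₀.1 c₀.2)).trans ?_
    show sp k ≫ (φ _ c₀.1).left = _
    rw [hc₀, ← Category.assoc, sp_comp, hkα]
    rfl

end Groth.PicEtale
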