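import Groth.Agent.PicEtale.SmoothFibre
import Groth.Agent.PicEtale.SmoothCrit
import Mathlib.AlgebraicGeometry.Morphisms.Smooth

/-!
# Smoothness of the relative Picard scheme where `H²` of the fibres vanishes
-/

set_option autoImplicit false
set_option linter.style.haveILetI false
universe u

open CategoryTheory AlgebraicGeometry Limits Opposite

noncomputable section

namespace Groth.PicEtale

variable {X S : Scheme.{u}} {f : X ⟶ S} {P : Over S} {φ : ∀ T : Over S, PicF.Cl (PicF.XT f T) → (T ⟶ P)}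

theorem smooth_preimage (hP : PicRel.IsRelPic f P φ) [IsProper f] [Flat f] [IsLocallyNoetherian S]
    [LocallyOfFiniteType P.hom] {U : S.Opens} (hU : FibreH2Zero f U) :
    Smooth ((P.hom ⁻¹ᵁ U).ι ≫ P.hom) := by
  let W := P.hom ⁻¹ᵁ U
  let f' := W.ι ≫ P.hom
  change Smooth f'
  rw [HasRingHomProperty.iff_appLE (P := @Smooth)]
  intro U' V e
  let θ := f'.appLE U' V e
  have : IsNoetherianRing Γ(S, U'.1) := IsLocallyNoetherian.component_noetherian U'
  have hft : θ.hom.FiniteType := HasRingHomProperty.appLE (P := @LocallyOfFiniteType) f' inferInstance U' V e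
  algebraize [θ.hom]
  refine HasLiftsUpToExt.smooth fun B' _ _ _ _ hB I hI hmI g => ?_
  have : Nontrivial (B' ⧸ I) := Ideal.Quotient.nontrivial_iff.2 hI
  have : IsLocalRing (B' ⧸ I) := IsLocalRing.of_surjective' _ Ideal.Quotient.mk_surjective
  let α := Spec.map (CommRingCat.ofHom g.toRingHom) ≫ V.2.fromSpec
  let β : Spec (CommRingCat.of B') ⟶ S :=
    Spec.map (CommRingCat.ofHom (algebraMap Γ(S, U'.1) B')) ≫ U'.2.fromSpec
  have : LocallyOfFiniteType (Spec.map (CommRingCat.ofHom (algebraMap Γ(S, U'.1) B'))) :=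
    (HasRingHomProperty.Spec_iff (P := @LocallyOfFiniteType)).2 (RingHom.finiteType_algebraMap.2 hB)
  have hw : iq I ≫ β = (α ≫ W.ι) ≫ P.hom := by
    have hπc : CommRingCat.ofHom (algebraMap Γ(S, U'.1) B') ≫ CommRingCat.ofHom (Ideal.Quotient.mk I) =
        θ ≫ CommRingCat.ofHom g.toRingHom := by
      ext x
      exact ((Ideal.Quotient.mkₐ Γ(S, U'.1) I).commutes x).trans (g.commutes x).symm
    show _ = (α ≫ W.ι) ≫ P.hom
    rw [Category.assoc]
    show _ = α ≫ f'
    rw [← Spec.map_comp_assoc, hπc, Spec.map_comp, Category.assoc,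
      IsAffineOpen.SpecMap_appLE_fromSpec f' U'.2 V.2 e, Category.assoc]
    rfl
  have hβU : Set.range β ⊆ U := by
    rintro _ ⟨p, rfl⟩
    rw [subsingleton_primeSpectrum p (iq I (IsLocalRing.closedPoint _)), ← Scheme.Hom.comp_apply, hw,
      Scheme.Hom.comp_apply, Scheme.Hom.comp_apply]
    exact (α (IsLocalRing.closedPoint _)).2
  obtain ⟨Q, _, _, _, _, γ, hinj, hγ₁, hγ₂⟩ := exists_lift_ext hP hU hI hmI (α ≫ W.ι) β hβU hw
  let j := V.2.fromSpec ≫ W.ι
  have hK : I.map (algebraMap B' Q) ≠ ⊤ := by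
    have := isLocalHom_of_finite (A := B') (B := Q)
    intro h
    have h' : I.map (algebraMap B' Q) ≤ IsLocalRing.maximalIdeal Q :=
      Ideal.map_le_iff_le_comap.2 fun x hx => map_nonunit (algebraMap B' Q) x (IsLocalRing.le_maximalIdeal hI hx)
    exact Ideal.IsMaximal.ne_top inferInstance (top_le_iff.1 (h ▸ h'))
  have : Nontrivial (Q ⧸ I.map (algebraMap B' Q)) := Ideal.Quotient.nontrivial_iff.2 hK
  have hrange : Set.range γ ⊆ Set.range j := by
    rintro _ ⟨p, rfl⟩
    obtain ⟨q⟩ : Nonempty (Spec (CommRingCat.of (Q ⧸ I.map (algebraMap B' Q)))) :=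
      inferInstanceAs (Nonempty (PrimeSpectrum _))
    rw [subsingleton_primeSpectrum p (iq (I.map (algebraMap B' Q)) q), ← Scheme.Hom.comp_apply, hγ₁]
    simp only [α, j, Scheme.Hom.comp_apply]
    exact ⟨_, rfl⟩
  let γ' := IsOpenImmersion.lift j γ hrange
  obtain ⟨g', hg'⟩ := Spec.map_surjective γ'
  have hγ' : γ' ≫ j = γ := IsOpenImmersion.lift_fac _ _ _
  let _ : Algebra Γ(S, U'.1) Q := ((algebraMap B' Q).comp (algebraMap Γ(S, U'.1) B')).toAlgebra
  have : IsScalarTower Γ(S, U'.1) B' Q := IsScalarTower.of_algebraMap_eq fun _ => rfl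
  have h2 : θ ≫ g' = CommRingCat.ofHom (algebraMap Γ(S, U'.1) Q) := by
    refine Spec.map_injective ((cancel_mono U'.2.fromSpec).1 ?_)
    rw [Spec.map_comp, Category.assoc, IsAffineOpen.SpecMap_appLE_fromSpec f' U'.2 V.2 e, hg']
    show γ' ≫ V.2.fromSpec ≫ W.ι ≫ P.hom = _
    rw [← Category.assoc V.2.fromSpec, ← Category.assoc γ', hγ', hγ₂, ← Category.assoc, ← Spec.map_comp]
    rfl
  have h1 : CommRingCat.ofHom (g'.hom) ≫ CommRingCat.ofHom (Ideal.Quotient.mk (I.map (algebraMap B' Q))) =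
      CommRingCat.ofHom g.toRingHom ≫ CommRingCat.ofHom
        (Ideal.quotientMap (I.map (algebraMap B' Q)) (algebraMap B' Q) Ideal.le_comap_map) := by
    refine Spec.map_injective ((cancel_mono j).1 ?_)
    rw [Spec.map_comp, Category.assoc, Spec.map_comp, Category.assoc, CommRingCat.ofHom_hom, hg', hγ', hγ₁]
    simp only [α, j, Category.assoc]
  refine ⟨Q, inferInstance, inferInstance, IsScalarTower.toAlgHom _ B' Q, hinj,
    { g'.hom with commutes' := fun r => congr(($h2).hom r) }, fun a b hab => ?_⟩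
  refine Ideal.Quotient.eq.1 ((congr(($h1).hom a)).trans ?_)
  show Ideal.quotientMap _ _ Ideal.le_comap_map (g a) = _
  rw [← hab]
  rfl

end Groth.PicEtale
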