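import Groth.Agent.PicAux.PicExpSeq
import Groth.Agent.Abvar.PicCalc
import Mathlib.AlgebraicGeometry.Morphisms.ClosedImmersion

/-!
# `n`-th roots of invertible classes along first order thickenings, `n` invertible
-/

set_option autoImplicit false
set_option linter.style.haveILetI false
universe u

open CategoryTheory AlgebraicGeometry Limits Opposite

noncomputable section

namespace Groth.PicEtale

open Groth.Abvar.PicCalc
open scoped Groth.Abvar.PicCalc

variable {X : Scheme.{u}}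

/-- Multiplication by an invertible integer is bijective on cohomology of modules. -/
theorem bijective_nsmul_HH (M : X.Modules) {n : ℕ} (hn : IsUnit (n : Γ(X, ⊤))) (p : ℕ) :
    Function.Bijective fun x : Coh.HH X M p => n • x := by
  let c : Coh.Γtop X := (↑hn.unit⁻¹ : Γ(X, ⊤))
  have key : n • Coh.smulAb M c = 𝟙 (Coh.toAb M) := by
    apply Sheaf.hom_ext
    ext U m
    let mm : M.val.obj U := m
    show n • (Coh.resTop X U c • mm) = mm
    rw [← Nat.cast_smul_eq_nsmul (X.ringCatSheaf.obj.obj U), smul_smul]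
    have e : (n : Coh.Γtop X) * c = 1 := hn.mul_val_inv
    have := congrArg (Coh.resTop X U) e
    rw [map_mul, map_natCast, map_one] at this
    rw [this, one_smul]
  have key' : ∀ x : Coh.HH X M p, n • Sheaf.H.map (Coh.smulAb M c) p x = x := fun x => by
    have := map_nsmul (AddMonoidHom.mk' (fun g : Coh.toAb M ⟶ Coh.toAb M => Sheaf.H.map g p x)
      fun g g' => Sheaf.H.map_add_apply g g' x) n (Coh.smulAb M c)
    simp only [AddMonoidHom.mk'_apply] at this
    rw [key, Sheaf.H.map_id_apply] at this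
    exact this.symm
  exact ⟨fun a b h => by
      have := congrArg (Sheaf.H.map (Coh.smulAb M c) p) (show n • a = n • b from h)
      rwa [map_nsmul, map_nsmul, key', key'] at this,
    fun x => ⟨_, key' x⟩⟩

section

variable {X₀ : Scheme.{u}} (j : X₀ ⟶ X) [IsClosedImmersion j] (hj : j.ker * j.ker = ⊥)
  {n : ℕ} (hn : IsUnit (n : Γ(X, ⊤)))

include hj hn in
/-- An `n`-th root on the thickened scheme of a class with an `n`-th root. -/
theorem exists_root_lift (c₀ : PicLoc.PicSet X₀) (d : PicLoc.PicSet X) (h : pull j d = c₀ ^ n) :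
    ∃ c : PicLoc.PicSet X, pull j c = c₀ ∧ c ^ n = d := by
  obtain ⟨ε, δ₀, α, δ₁, -, -, hδ₀, hα, hp, hδ₁⟩ :=
    Groth.PicAux.PicExpSeq.exists_sequence (I := j.ker) (pullMulCl _) hj
  have hie : j.toImage ≫ j.ker.subschemeι = j := j.toImage_imageι
  have hpull : ∀ c, pull j c = pull j.toImage (pull j.ker.subschemeι c) := fun c => by
    rw [← pull_comp]; exact Subtype.ext (by rw [pull, pull, PicGrp.pullHom_apply_val, PicGrp.pullHom_apply_val, hie])
  have hcomp : ∀ c, pull (inv j.toImage) (pull j.toImage c) = c := fun c => by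
    rw [← pull_comp]
    exact Subtype.ext (by rw [pull, PicGrp.pullHom_apply_val, IsIso.inv_hom_id, PicLoc.pullCl_id])
  let e₀ := pull (inv j.toImage) c₀
  have he₀ : pull j.ker.subschemeι d = e₀ ^ n := by
    rw [← map_pow, ← h, hpull, hcomp]
  have h2 : Multiplicative.toAdd (δ₁ e₀) = 0 := by
    refine (bijective_nsmul_HH _ hn 2).1 (a₂ := 0) ?_
    show n • Multiplicative.toAdd (δ₁ e₀) = n • 0
    rw [smul_zero, ← toAdd_pow, ← map_pow, ← he₀]
    exact congrArg Multiplicative.toAdd (MonoidHom.mem_ker.1 (hδ₁ ▸ ⟨d, rfl⟩ :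
      pull j.ker.subschemeι d ∈ δ₁.ker))
  obtain ⟨c₁, hc₁⟩ : e₀ ∈ (pull j.ker.subschemeι).range := hδ₁ ▸
    MonoidHom.mem_ker.2 (Multiplicative.toAdd.injective h2)
  obtain ⟨a, ha⟩ : c₁ ^ n * d⁻¹ ∈ α.range := by
    refine hp ▸ MonoidHom.mem_ker.2 ?_
    show pull j.ker.subschemeι (c₁ ^ n * d⁻¹) = 1
    rw [map_mul, map_inv, map_pow, hc₁, he₀, mul_inv_cancel]
  obtain ⟨b, hb⟩ := (bijective_nsmul_HH _ hn 1).2 (Multiplicative.toAdd a)
  refine ⟨c₁ * (α (Multiplicative.ofAdd b))⁻¹, ?_, ?_⟩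
  · have : pull j.ker.subschemeι (α (Multiplicative.ofAdd b)) = 1 :=
      MonoidHom.mem_ker.1 (show α (Multiplicative.ofAdd b) ∈ (pull j.ker.subschemeι).ker from hp ▸ ⟨_, rfl⟩)
    rw [hpull, map_mul, map_inv, this, inv_one, mul_one, hc₁, ← pull_comp]
    exact Subtype.ext (by rw [pull, PicGrp.pullHom_apply_val, IsIso.hom_inv_id, PicLoc.pullCl_id])
  · rw [mul_pow, inv_pow, ← map_pow, ← ofAdd_nsmul, show n • b = Multiplicative.toAdd a from hb, ofAdd_toAdd,
      ha, mul_inv_rev, inv_inv, mul_comm d, mul_inv_cancel_left]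

include hj hn in
/-- A class killed by `n` and by restriction is trivial, if global units of the subscheme are `n`-th powers. -/
theorem eq_one_of_pow_eq_one (hroot : ∀ v : Γ(X₀, ⊤)ˣ, ∃ w : Γ(X₀, ⊤)ˣ, w ^ n = v)
    (c : PicLoc.PicSet X) (hc : pull j c = 1) (hcn : c ^ n = 1) : c = 1 := by
  obtain ⟨ε, δ₀, α, δ₁, -, -, hδ₀, hα, hp, hδ₁⟩ :=
    Groth.PicAux.PicExpSeq.exists_sequence (I := j.ker) (pullMulCl _) hj
  have hie : j.toImage ≫ j.ker.subschemeι = j := j.toImage_imageι
  obtain ⟨a, rfl⟩ : c ∈ α.range := by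
    refine hp ▸ MonoidHom.mem_ker.2 ?_
    show pull j.ker.subschemeι c = 1
    have : pull (inv j.toImage) (pull j c) = pull j.ker.subschemeι c := by
      rw [← pull_comp]
      exact Subtype.ext (by rw [pull, pull, PicGrp.pullHom_apply_val, PicGrp.pullHom_apply_val,
        (IsIso.inv_comp_eq j.toImage).2 hie.symm])
    rw [← this, hc, map_one]
  obtain ⟨v, hv⟩ : a ^ n ∈ δ₀.range := hα ▸ MonoidHom.mem_ker.2 (by rw [map_pow, hcn])
  have : IsIso j.toImage.appTop := inferInstanceAs (IsIso (j.toImage.app ⊤))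
  let r := (asIso j.toImage.appTop).commRingCatIsoToRingEquiv
  obtain ⟨w, hw⟩ := hroot (Units.mapEquiv r.toMulEquiv v)
  let w' := (Units.mapEquiv r.toMulEquiv).symm w
  have hw' : w' ^ n = v := by rw [← map_pow, hw, MulEquiv.symm_apply_apply]
  have : δ₀ w' = a := Multiplicative.toAdd.injective ((bijective_nsmul_HH _ hn 1).1 (by
    show n • _ = n • _
    rw [← toAdd_pow, ← map_pow, hw', hv, toAdd_pow]))
  exact MonoidHom.mem_ker.1 (hα ▸ ⟨w', this⟩ : a ∈ α.ker)

end

end Groth.PicEtale
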