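import Groth.Agent.PicEtale.Thick
import Groth.Agent.PicEtale.Roots
import Groth.Agent.PicAux.RelPicSep
import Groth.Agent.OmegaSheaf.UnivThick.BaseChange
import Groth.Agent.FlatmorThree.FormalLift
import Groth.Agent.HensPair.ProperClopenNoeth
import Groth.Agent.HensPair.SteinEtaleLocal
import Groth.Agent.Hensel1.Transfer
import Groth.Agent.Hensel1.EtaleTransfer
import Groth.Agent.EtaleAlgebra.WedgeCompletion

/-!
# Uniqueness of roots in the relative Picard functor on Artinian thickenings
-/

set_option autoImplicit false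
set_option linter.style.haveILetI false
universe u

open CategoryTheory AlgebraicGeometry Limits Opposite IsLocalRing

noncomputable section

namespace Groth.PicEtale

open Groth.Abvar.PicCalc
open scoped Groth.Abvar.PicCalc

variable {X S : Scheme.{u}} {f : X ⟶ S} {P : Over S} {φ : ∀ T : Over S, PicF.Cl (PicF.XT f T) → (T ⟶ P)}

/-- The closed immersion of affine schemes defined by an ideal. -/
abbrev iq {A : Type u} [CommRing A] (I : Ideal A) :
    Spec (CommRingCat.of (A ⧸ I)) ⟶ Spec (CommRingCat.of A) :=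
  Spec.map (CommRingCat.ofHom (Ideal.Quotient.mk I))

/-- The thickening over `S`. -/
abbrev jq {A : Type u} [CommRing A] (I : Ideal A) (b : Spec (CommRingCat.of A) ⟶ S) :
    Over.mk (iq I ≫ b) ⟶ Over.mk b :=
  Over.homMk (iq I) rfl

theorem fot_XTmap {A : Type u} [CommRing A] {I : Ideal A} (hI : I ^ 2 = ⊥)
    (b : Spec (CommRingCat.of A) ⟶ S) :
    MoreMor.IsFirstOrderThickening (PicF.XTmap f (jq I b)) :=
  Groth.OmegaSheaf.UnivThick.fot_baseChange (Groth.PicAux.RelPicSep.isPullback_XTmap f (jq I b))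
    (Groth.FlatmorThree.FormalLift.isFirstOrderThickening_specMap_mk I hI)

theorem isUnit_natCast_XT {A : Type u} [CommRing A] {n : ℕ} (hn : IsUnit (n : A))
    (T : Over S) (b : T.left ⟶ Spec (CommRingCat.of A)) :
    IsUnit (n : Γ(PicF.XT f T, ⊤)) := by
  have h := (hn.map (Scheme.ΓSpecIso (CommRingCat.of A)).inv.hom).map (PicF.XTproj f T ≫ b).appTop.hom
  rwa [map_natCast, map_natCast] at h

theorem henselianLocalRing_of_artinian (R : Type u) [CommRing R] [IsLocalRing R] [IsArtinianRing R] :
    HenselianLocalRing R := by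
  have h := Groth.Hensel1.henselianRing_of_forall_isNilpotent (I := maximalIdeal R) fun x hx => by
    rw [← jacobson_eq_maximalIdeal ⊥ bot_ne_top] at hx
    obtain ⟨m, hm⟩ := IsArtinianRing.isNilpotent_jacobson_bot (R := R)
    exact ⟨m, by simpa [hm] using Ideal.pow_mem_pow hx m⟩
  exact { is_henselian := fun g hg a h1 h2 => h.is_henselian g hg a h1 (h2.map _) }

theorem hasSections_quotient (R : Type u) [CommRing R] [IsLocalRing R] [IsArtinianRing R]
    [IsSepClosed (ResidueField R)] (I : Ideal R) (hI : I ≠ ⊤) :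
    HasSections (Spec (CommRingCat.of (R ⧸ I))) := by
  haveI : Nontrivial (R ⧸ I) := Ideal.Quotient.nontrivial_iff.2 hI
  haveI : IsLocalRing (R ⧸ I) := IsLocalRing.of_surjective' _ Ideal.Quotient.mk_surjective
  haveI := henselianLocalRing_of_artinian (R ⧸ I)
  haveI : IsLocalHom (Ideal.Quotient.mk I) := IsLocalHom.of_surjective _ Ideal.Quotient.mk_surjective
  have hbij : Function.Bijective (ResidueField.map (Ideal.Quotient.mk I)) :=
    ⟨RingHom.injective _, fun y => by
      obtain ⟨a, rfl⟩ := residue_surjective y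
      obtain ⟨a, rfl⟩ := Ideal.Quotient.mk_surjective a
      exact ⟨residue R a, rfl⟩⟩
  haveI := Groth.EtaleAlgebra.Wedge.isSepClosed_of_ringEquiv (RingEquiv.ofBijective _ hbij)
  exact hasSections_spec (R ⧸ I)

variable [IsProper f] (hP : PicRel.IsRelPic f P φ) {n : ℕ} {m : P ⟶ P}
  (hm : ∀ (T : Over S) (L : (PicF.XT f T).Modules), PicF.IsInvertible L →
    φ T (PicF.cl (CohB1.tensorPow L n)) = φ T (PicF.cl L) ≫ m)

include hP hm

/-- Uniqueness over a strictly henselian Artinian ring. -/
theorem eq_of_sepClosed {R : Type u} [CommRing R] [IsLocalRing R] [IsArtinianRing R]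
    [IsSepClosed (ResidueField R)] (hn : IsUnit (n : R)) (hn0 : 0 < n) {I : Ideal R} (hI : I ^ 2 = ⊥)
    {g g' : Spec (CommRingCat.of R) ⟶ P.left} (h1 : iq I ≫ g = iq I ≫ g')
    (h2 : g ≫ m.left = g' ≫ m.left) : g = g' := by
  have hb : g' ≫ P.hom = g ≫ P.hom := by rw [← Over.w m, ← reassoc_of% h2]
  let b := g ≫ P.hom
  let G : Over.mk b ⟶ P := Over.homMk g rfl
  let G' : Over.mk b ⟶ P := Over.homMk g' hb
  have hItop : I ≠ ⊤ := fun h => by simp [h, pow_two] at hI
  haveI := henselianLocalRing_of_artinian R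
  obtain ⟨c, hc⟩ := exists_class hP (T := Over.mk b) (hasSections_spec R) G
  obtain ⟨c', hc'⟩ := exists_class hP (T := Over.mk b) (hasSections_spec R) G'
  have h0 : pull (PicF.XTmap f (jq I b)) c = pull (PicF.XTmap f (jq I b)) c' := by
    refine class_ext hP (T := Over.mk (iq I ≫ b)) (hasSections_quotient R I hItop) ?_
    show φ _ (PicF.pullCl _ c.1) = φ _ (PicF.pullCl _ c'.1)
    rw [hP.natural _ _ _ c.1 c.2, hP.natural _ _ _ c'.1 c'.2, hc, hc']
    exact Over.OverMorphism.ext h1
  have hp : c ^ n = c' ^ n := by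
    refine class_ext hP (T := Over.mk b) (hasSections_spec R) ?_
    rw [phi_pow hm, phi_pow hm, hc, hc']
    exact Over.OverMorphism.ext h2
  haveI : IsClosedImmersion (iq I) := IsClosedImmersion.spec_of_surjective _ Ideal.Quotient.mk_surjective
  have hfot := fot_XTmap (f := f) hI b
  haveI : IsClosedImmersion (PicF.XTmap f (jq I b)) := hfot.1.1
  let π : PicF.XT f (Over.mk (iq I ≫ b)) ⟶ Spec (CommRingCat.of (R ⧸ I)) := PicF.XTproj f (Over.mk (iq I ≫ b))
  let p₀ : PicF.XT f (Over.mk (iq I ≫ b)) ⟶ Spec (CommRingCat.of R) := π ≫ iq I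
  haveI : IsProper π :=
    inferInstanceAs (IsProper (pullback.snd f (iq I ≫ b)))
  haveI : IsProper p₀ := inferInstanceAs (IsProper (π ≫ iq I))
  let alg : Algebra R Γ(PicF.XT f (Over.mk (iq I ≫ b)), ⊤) := RingHom.toAlgebra (Groth.HensPair.toΓ p₀)
  have hfin := Groth.HensPair.finite_globalSections_of_proper Groth.CohFin.projFinite p₀
  have h3 : c / c' = 1 := eq_one_of_pow_eq_one (PicF.XTmap f (jq I b)) hfot.2
    (isUnit_natCast_XT hn (Over.mk b) (𝟙 _)) (fun v => exists_root_artinian hn hn0 v) (c / c')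
    (by rw [map_div, h0, div_self']) (by rw [div_pow, hp, div_self'])
  have : G = G' := by rw [← hc, ← hc', div_eq_one.1 h3]
  exact congrArg (fun w => w.left) this

/-- Uniqueness over an Artinian ring. -/
theorem eq_of_artinian {A : Type u} [CommRing A] [IsArtinianRing A] (hn : IsUnit (n : A)) (hn0 : 0 < n)
    {I : Ideal A} (hI : I ^ 2 = ⊥) {g g' : Spec (CommRingCat.of A) ⟶ P.left}
    (h1 : iq I ≫ g = iq I ≫ g') (h2 : g ≫ m.left = g' ≫ m.left) : g = g' := by
  -- restriction to an Artinian algebra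
  have hres : ∀ (B : Type u) [CommRing B] (h : A →+* B),
      iq (I.map h) ≫ Spec.map (CommRingCat.ofHom h) ≫ g = iq (I.map h) ≫ Spec.map (CommRingCat.ofHom h) ≫ g' := by
    intro B _ h
    have e : iq (I.map h) ≫ Spec.map (CommRingCat.ofHom h) =
        Spec.map (CommRingCat.ofHom (Ideal.quotientMap (I.map h) h Ideal.le_comap_map)) ≫ iq I := by
      rw [← Spec.map_comp, ← Spec.map_comp]; rfl
    rw [reassoc_of% e, h1, reassoc_of% e]
  have hloc : ∀ M : PrimeSpectrum A,
      Spec.map (CommRingCat.ofHom (algebraMap A (Localization.AtPrime M.asIdeal))) ≫ g =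
        Spec.map (CommRingCat.ofHom (algebraMap A (Localization.AtPrime M.asIdeal))) ≫ g' := by
    intro M
    let L := Localization.AtPrime M.asIdeal
    haveI : IsArtinianRing L := inferInstanceAs (IsArtinianRing (Localization M.asIdeal.primeCompl))
    obtain ⟨R, _, _, _, _, hR⟩ := Groth.Hensel1.exists_isStrictHenselization L
    haveI := hR.isSepClosure.sep_closed
    obtain ⟨H⟩ := Groth.Hensel1.hensModel_of_isStrictHenselization (R := L) (S := R)
    haveI : IsArtinianRing R := by
      have hN : IsNoetherianRing R := H.isNoetherianRing_iff.1 inferInstance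
      have hd : ringKrullDim R ≤ 0 := H.ringKrullDim_eq.trans_le (Ring.krullDimLE_iff.1 inferInstance)
      exact isArtinianRing_iff_isNoetherianRing_krullDimLE_zero.2 ⟨hN, Ring.krullDimLE_iff.2 hd⟩
    haveI := H.faithfullyFlat
    haveI : Flat (Spec.map (CommRingCat.ofHom (algebraMap L R))) := by
      rw [HasRingHomProperty.Spec_iff (P := @Flat)]; exact RingHom.flat_algebraMap_iff.2 inferInstance
    haveI : Surjective (Spec.map (CommRingCat.ofHom (algebraMap L R))) :=
      ⟨PrimeSpectrum.comap_surjective_of_faithfullyFlat⟩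
    haveI : Epi (Spec.map (CommRingCat.ofHom (algebraMap L R))) := Flat.epi_of_flat_of_surjective _
    rw [← cancel_epi (Spec.map (CommRingCat.ofHom (algebraMap L R))), ← Spec.map_comp_assoc,
      ← Spec.map_comp_assoc]
    let h := (algebraMap L R).comp (algebraMap A L)
    refine eq_of_sepClosed hP hm (by simpa using hn.map h) hn0 (I := I.map h) ?_ (hres R h) ?_
    · rw [← Ideal.map_pow, hI, Ideal.map_bot]
    · rw [Category.assoc, Category.assoc, h2]
  let R' := fun M : PrimeSpectrum A => CommRingCat.of (Localization.AtPrime M.asIdeal)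
  let ρ : CommRingCat.of A ⟶ CommRingCat.of (Π M, R' M) :=
    CommRingCat.ofHom (RingHom.pi fun M => algebraMap A (Localization.AtPrime M.asIdeal))
  haveI : IsIso (Spec.map ρ) := by
    haveI : IsIso ρ := (ConcreteCategory.isIso_iff_bijective ρ).2
      (PrimeSpectrum.toPiLocalization_bijective (R := A))
    infer_instance
  rw [← cancel_epi (Spec.map ρ), ← cancel_epi (sigmaSpec R')]
  refine Sigma.hom_ext _ _ fun M => ?_
  rw [ι_sigmaSpec_assoc, ι_sigmaSpec_assoc, ← Spec.map_comp_assoc, ← Spec.map_comp_assoc]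
  exact hloc M

end Groth.PicEtale
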